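import Cfsg.Agent.H98.TensorUnit.Main
import Cfsg.Agent.H98.TensorSymTwo.Wrap
import Cfsg.Agent.Symplectic.HermBasic
import Cfsg.Agent.H96.TensorCoords

/-!
The stabiliser of a decomposition `SU(n₁) ⊗ SU(n₂)` with `2 ≤ n₁ < n₂`, `4 ≤ n₂`, `(n₁, q) ≠ (2, 2)` is maximal in
the special unitary group.
-/

set_option autoImplicit false
set_option linter.style.haveILetI false
open Cfsg

namespace Cfsg.Agent.H98.TensorUnit

open Module Matrix Cfsg.Agent.H96

variable {F : Type*} [Field F] [Fintype F]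

/-- Forms as functions give Hermitian forms. -/
def hermOfPow {q : ℕ} (hF : Fintype.card F = q ^ 2) {κ : Type} [Fintype κ] [DecidableEq κ]
    {f : (κ → F) → (κ → F) → F} (hf : Geo.IsUnitaryFormPow q f) (c : F) (hc : c ^ q = c) (hc0 : c ≠ 0) :
    Herm F (Unitary.frob hF) (κ → F) where
  B x y := c * f x y
  add_left x y z := by rw [hf.add_left, mul_add]
  smul_left r x z := by rw [hf.smul_left]; ring
  conj x y := by rw [map_mul, Unitary.frob_apply, Unitary.frob_apply, hc, ← hf.herm]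
  nd x hx := by
    by_contra h
    obtain ⟨y, hy⟩ := (hf.nondegenerate x h).2
    exact hy ((mul_eq_zero.1 (hx y)).resolve_left hc0)
  inv a := by rw [Unitary.frob_apply, Unitary.frob_apply, Unitary.pow_q_q hF]
  ne := by
    obtain ⟨x, hx⟩ := Unitary.exists_skew hF
    by_contra hcon
    push Not at hcon
    obtain ⟨σ, hσ, hU⟩ := Symplectic.isUnitaryForm_hermForm (n := 1) hF
    exact hU.ne_refl (RingEquiv.ext fun a => by rw [hσ, ← Unitary.frob_apply hF, hcon]; rfl)
  norm a ha := by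
    rw [Unitary.frob_apply] at ha
    obtain ⟨x, hx⟩ := Unitary.exists_norm_eq hF ha
    exact ⟨x, by rw [Unitary.frob_apply]; exact hx⟩

theorem isUnitaryFormPow_hermForm {q n : ℕ} (hF : Fintype.card F = q ^ 2) :
    Geo.IsUnitaryFormPow q (Cfsg.hermForm n F q) := by
  obtain ⟨σ, hσ, hU⟩ := Symplectic.isUnitaryForm_hermForm (n := n) hF
  exact ⟨hU.add_left, hU.smul_left, fun v w => by rw [hU.herm v w, hσ], hU.nondegenerate⟩

/-- A sesquilinear form as its Gram sum. -/
theorem sum_gram {q : ℕ} (hF : Fintype.card F = q ^ 2) {κ : Type} [Fintype κ] [DecidableEq κ]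
    {f : (κ → F) → (κ → F) → F} (hf : Geo.IsUnitaryFormPow q f) (a b : κ → F) :
    ∑ j, ∑ j', a j * Geo.gramMatrix f j j' * (b j') ^ q = f a b := by
  let h := hermOfPow hF hf 1 (one_pow q) one_ne_zero
  have hB : ∀ x y, h.B x y = f x y := fun x y => one_mul _
  rw [← hB a b]
  conv_rhs => rw [pi_eq_sum_univ' a, h.sum_left]
  refine Finset.sum_congr rfl fun j _ => ?_
  rw [h.smul_left, ← h.conj b, pi_eq_sum_univ' b, h.sum_left, map_sum, Finset.mul_sum, ← pi_eq_sum_univ' b]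
  refine Finset.sum_congr rfl fun j' _ => ?_
  rw [h.smul_left, map_mul, h.conj, hB, Unitary.frob_apply]
  show a j * f (Pi.single j 1) (Pi.single j' 1) * b j' ^ q = _
  ring

theorem maximal (n q : ℕ) (hF : Fintype.card F = q ^ 2) (n₁ n₂ : ℕ) (h1 : 2 ≤ n₁) (h12 : n₁ < n₂) (h4 : 4 ≤ n₂)
    (hex : ¬ (n₁ = 2 ∧ q = 2)) (e : Fin n ≃ Fin n₁ × Fin n₂) (P : GL (Fin n) F)
    (f₁ : (Fin n₁ → F) → (Fin n₁ → F) → F) (f₂ : (Fin n₂ → F) → (Fin n₂ → F) → F)
    (hf₁ : Geo.IsUnitaryFormPow q f₁) (hf₂ : Geo.IsUnitaryFormPow q f₂)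
    (hT : Geo.IsTensorFormStructure (fun x : F => x ^ q) (Cfsg.hermForm n F q) f₁ f₂ e P) :
    Geo.IsMaximalIn (Cfsg.GU n F q ⊓ Geo.specialLinear (Fin n) F)
      (Geo.tensorProductSubgroup n₁ n₂ e P ⊓ (Cfsg.GU n F q ⊓ Geo.specialLinear (Fin n) F)) := by
  classical
  set σ := Unitary.frob hF with hσdef
  obtain ⟨k, hk, hk'⟩ := hT
  let Ω : Herm F σ (Fin n → F) := hermOfPow hF (isUnitaryFormPow_hermForm hF) 1 (one_pow q) one_ne_zero
  have hΩ : ∀ x y, Ω.B x y = Cfsg.hermForm n F q x y := fun x y => one_mul _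
  let t : (Fin n₂ → F) →ₗ[F] (Fin n₁ → F) →ₗ[F] (Fin n → F) :=
    LinearMap.mk₂ F (fun w x => tensorIso e P fun i => x i • w)
      (fun w w' x => by rw [← map_add]; congr 1; funext i; exact smul_add _ _ _)
      (fun r w x => by rw [← map_smul]; congr 1; funext i; exact smul_comm _ _ _)
      (fun w x x' => by rw [← map_add]; congr 1; funext i; exact add_smul _ _ _)
      (fun r w x => by rw [← map_smul]; congr 1; funext i; exact mul_smul _ _ _)
  have ht : ∀ w x, t w x = tensorIso e P fun i => x i • w := fun w x => rfl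
  have hform : ∀ w x u y, Ω.B (t w x) (t u y) = k * (f₁ x y * f₂ w u) := by
    intro w x u y
    rw [hΩ, ht, ht, tensorIso_apply, tensorIso_apply, hk', ← sum_gram hF hf₁, ← sum_gram hF hf₂, Finset.sum_mul_sum]
    congr 1
    simp only [Geo.formOfGram, Fintype.sum_prod_type, Matrix.kroneckerMap_apply, Pi.smul_apply, smul_eq_mul,
      Finset.mul_sum, Finset.sum_mul]
    refine Finset.sum_congr rfl fun i _ => Finset.sum_congr rfl fun j _ => ?_
    rw [Finset.sum_comm]
    refine Finset.sum_congr rfl fun j' _ => Finset.sum_congr rfl fun i' _ => ?_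
    rw [mul_pow]
    ring
  let K := hermOfPow hF hf₁ 1 (one_pow q) one_ne_zero
  let H₁ := hermOfPow hF hf₂ 1 (one_pow q) one_ne_zero
  have hK : ∀ x y, K.B x y = f₁ x y := fun x y => one_mul _
  have hH₁ : ∀ x y, H₁.B x y = f₂ x y := fun x y => one_mul _
  set x₀ : Fin n₁ → F := Pi.single ⟨0, by omega⟩ 1 with hx₀
  set w₀ : Fin n₂ → F := Pi.single ⟨0, by omega⟩ 1 with hw₀
  have hx₀0 : x₀ ≠ 0 := by simp [hx₀]
  have hw₀0 : w₀ ≠ 0 := by simp [hw₀]
  have hkq : k ^ q = k := by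
    obtain ⟨y₀, hy₀⟩ := K.exists_one hx₀0
    obtain ⟨u₀, hu₀⟩ := H₁.exists_one hw₀0
    have e1 := Ω.conj (t w₀ x₀) (t u₀ y₀)
    rw [hform, hform, ← hK, ← hK, ← hH₁, ← hH₁, hy₀, hu₀, K.eq_one_symm hy₀, H₁.eq_one_symm hu₀, one_mul, mul_one,
      hσdef, Unitary.frob_apply] at e1
    exact e1
  let S : Sys F σ (Fin n → F) (Fin n₂ → F) (Fin n₁ → F) :=
    { H := hermOfPow hF hf₂ k hkq hk
      K := K
      Ω := Ω
      t := t
      ω_pure := fun w x u y => by
        rw [hform, hK]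
        show _ = k * f₂ w u * f₁ x y
        ring
      span := fun D hD => eq_top_iff.2 fun v _ => by
        obtain ⟨m, rfl⟩ := (tensorIso e P).surjective v
        have hm : m = ∑ i, (fun i' => (Pi.single i (1 : F) : Fin n₁ → F) i' • m i) := by
          funext i'
          simp [Finset.sum_apply, Pi.single_apply]
        rw [hm, map_sum]
        exact D.sum_mem fun i _ => hD (m i) (Pi.single i 1)
      W0 := ⟨w₀, hw₀0⟩
      X0 := ⟨x₀, hx₀0⟩ }
  let Ψ : GL (Fin n) F ≃* ((Fin n → F) ≃ₗ[F] (Fin n → F)) :=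
    Matrix.GeneralLinearGroup.toLin.trans (LinearMap.GeneralLinearGroup.generalLinearEquiv F (Fin n → F))
  have hΨ : ∀ (g : GL (Fin n) F) v, Ψ g v = (g : Matrix (Fin n) (Fin n) F) *ᵥ v := fun g v => rfl
  have hdet : ∀ g : GL (Fin n) F, g ∈ Geo.specialLinear (Fin n) F ↔ LinearEquiv.det (Ψ g) = 1 := fun g => by
    have h1 : LinearEquiv.det (Ψ g) = Matrix.GeneralLinearGroup.det g := Units.ext (by
      rw [LinearEquiv.coe_det]
      show LinearMap.det (Matrix.toLin' (g : Matrix (Fin n) (Fin n) F)) = _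
      rw [LinearMap.det_toLin']; rfl)
    rw [h1]
    exact MonoidHom.mem_ker
  have hiso : ∀ g : GL (Fin n) F, g ∈ Cfsg.GU n F q ↔ S.IsIso (Ψ g) := fun g => by
    constructor
    · intro h v v'
      show Ω.B _ _ = Ω.B _ _
      rw [hΩ, hΩ, hΨ, hΨ]
      exact h v v'
    · intro h v v'
      have := h v v'
      rw [show S.Ω.B = Ω.B from rfl, hΩ, hΩ, hΨ, hΨ] at this
      exact this
  have hdec : ∀ g, g ∈ Geo.tensorProductSubgroup n₁ n₂ e P → S.Dec (Ψ g) := by
    intro g hg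
    obtain ⟨A, B, hAB⟩ := exists_tensor_action hg
    refine ⟨Matrix.mulVecLin (B : Matrix (Fin n₂) (Fin n₂) F), Matrix.mulVecLin (A : Matrix (Fin n₁) (Fin n₁) F),
      fun w x => ?_⟩
    show Ψ g (t w x) = t _ _
    rw [hΨ, ht, ht, hAB]
    refine congrArg (tensorIso e P) (funext fun i => ?_)
    simp only [Matrix.mulVec_smul, Matrix.mulVecLin_apply, smul_smul, ← Finset.sum_smul]
    rfl
  have hmem : ∀ g, S.Dec (Ψ g) → g ∈ Geo.tensorProductSubgroup n₁ n₂ e P := by
    rintro g ⟨A, B, hAB⟩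
    obtain ⟨hA, hB⟩ := S.dec_injective hAB
    have hAu : IsUnit (LinearMap.toMatrix' A) := Matrix.mulVec_injective_iff_isUnit.1 fun u v h => hA (by
      simpa [LinearMap.toMatrix'_mulVec] using h)
    have hBu : IsUnit (LinearMap.toMatrix' B) := Matrix.mulVec_injective_iff_isUnit.1 fun u v h => hB (by
      simpa [LinearMap.toMatrix'_mulVec] using h)
    refine TensorSymTwo.mem_of_action hBu.unit hAu.unit fun m => ?_
    have hm : tensorIso e P m = ∑ i, t (m i) (Pi.single i 1) := by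
      simp only [ht, ← map_sum]
      refine congrArg (tensorIso e P) (funext fun i' => ?_)
      simp [Finset.sum_apply, Pi.single_apply]
    rw [← hΨ, hm, map_sum, Finset.sum_congr rfl fun i _ => (hAB (m i) (Pi.single i 1))]
    show ∑ i, t (A (m i)) (B (Pi.single i 1)) = _
    simp only [ht, ← map_sum]
    refine congrArg (tensorIso e P) (funext fun i' => ?_)
    rw [Finset.sum_apply]
    refine Finset.sum_congr rfl fun i _ => ?_
    simp [LinearMap.toMatrix'_mulVec, LinearMap.toMatrix'_apply, Pi.single_apply]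
  have ha : 4 ≤ finrank F (Fin n₂ → F) := by rw [finrank_fin_fun]; exact h4
  have hb : 2 ≤ finrank F (Fin n₁ → F) := by rw [finrank_fin_fun]; exact h1
  have hba : finrank F (Fin n₁ → F) < finrank F (Fin n₂ → F) := by
    rw [finrank_fin_fun, finrank_fin_fun]; exact h12
  have hex' : (∃ r : F, σ r = r ∧ r ≠ 0 ∧ r ≠ 1) ∨ 3 ≤ finrank F (Fin n₁ → F) := by
    rcases Nat.lt_or_ge q 3 with h | h
    · refine Or.inr ?_
      rw [finrank_fin_fun]
      have := Unitary.two_le_q hF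
      omega
    · exact Or.inl (Unitary.exists_fixed_ne hF h)
  refine ⟨lt_of_le_of_ne inf_le_right fun h => ?_, fun M hle1 hle2 => ?_⟩
  · obtain ⟨c, hc0, hc⟩ := S.H.exists_isotropic (by omega)
    obtain ⟨δ, hδ0, hδ⟩ := Ω.exists_skew
    have hv : S.Ω.B (S.t c x₀) (S.t c x₀) = 0 := by rw [S.ω_pure, hc, zero_mul]
    obtain ⟨g, hg⟩ := Ψ.surjective (S.Ω.tv δ (S.t c x₀) hv)
    have hgK : g ∈ Cfsg.GU n F q ⊓ Geo.specialLinear (Fin n) F :=
      ⟨(hiso g).2 (by rw [hg]; exact S.Ω.tv_iso hδ hv),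
        (hdet g).2 (by rw [hg]; exact det_eq_one (S.Ω.tv_unipotent δ hv))⟩
    rw [← h] at hgK
    exact S.not_dec_tv ha hb hc0 hx₀0 hv hδ0 (hg ▸ hdec g hgK.1)
  · by_cases hMN : M ≤ Geo.tensorProductSubgroup n₁ n₂ e P
    · exact Or.inl (le_antisymm (le_inf hMN hle2) hle1)
    refine Or.inr (le_antisymm hle2 ?_)
    have hM : S.Over (M.map Ψ.toMonoidHom) := by
      refine ⟨?_, ?_, fun g hg1 hg2 hg3 => ?_⟩
      · rintro _ ⟨g, hg, rfl⟩
        exact (hiso g).1 (hle2 hg).1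
      · rintro _ ⟨g, hg, rfl⟩
        exact (hdet g).1 (hle2 hg).2
      · obtain ⟨g, rfl⟩ := Ψ.surjective g
        exact Subgroup.mem_map_of_mem _ (hle1 ⟨hmem g hg3, (hiso g).2 hg1, (hdet g).2 hg2⟩)
    rcases S.dichotomy hM ha hb hba hex' with h | h
    · obtain ⟨g, hg, hgN⟩ := SetLike.not_le_iff_exists.1 hMN
      exact absurd (hmem g (h _ (Subgroup.mem_map_of_mem _ hg))) hgN
    obtain ⟨σ', hσ', hU⟩ := Symplectic.isUnitaryForm_hermForm (n := n) hF
    have hn : 4 ≤ n := by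
      have := Fintype.card_congr e
      rw [Fintype.card_prod, Fintype.card_fin, Fintype.card_fin, Fintype.card_fin] at this
      nlinarith
    refine Symplectic.su_le_of_ut hF hn hσ' hU fun v hv l hl => ?_
    have hv' : S.Ω.B v v = 0 := (hΩ v v).trans hv
    obtain ⟨g, hg, hgv⟩ := h v hv' l (by rw [hσdef, Unitary.frob_apply, ← hσ', hl])
    suffices Symplectic.ut hU v l = g by rw [this]; exact hg
    refine Units.ext (Matrix.ext_of_mulVec_single fun j => ?_)
    rw [Symplectic.ut_mulVec hU hv, ← hΨ g, show Ψ g = S.Ω.tv l v hv' from hgv, Herm.tv_apply,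
      show S.Ω.B = Ω.B from rfl, hΩ, smul_smul]

end Cfsg.Agent.H98.TensorUnit
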