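import Cfsg.Agent.H98.TensorUnit.Odd
import Cfsg.Agent.H98.TensorUnit.Two
import Cfsg.Agent.H98.TensorUnit.RootsFull

/-!
An overgroup of the stabiliser of the decomposition either respects it or contains all transvections.
-/

set_option autoImplicit false
set_option linter.style.haveILetI false
set_option linter.unusedSectionVars false

namespace Cfsg.Agent.H98.TensorUnit

open Module

variable {F : Type*} [Field F] [Finite F] {σ : F ≃+* F} {V W X : Type*}
  [AddCommGroup V] [Module F V] [FiniteDimensional F V]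
  [AddCommGroup W] [Module F W] [FiniteDimensional F W]
  [AddCommGroup X] [Module F X] [FiniteDimensional F X]

namespace Sys

variable (S : Sys F σ V W X) {M : Subgroup (V ≃ₗ[F] V)}

theorem dichotomy (hM : S.Over M) (ha : 4 ≤ finrank F W) (hb : 2 ≤ finrank F X)
    (hba : finrank F X < finrank F W) (hex : (∃ r : F, σ r = r ∧ r ≠ 0 ∧ r ≠ 1) ∨ 3 ≤ finrank F X) :
    (∀ g ∈ M, S.Dec g) ∨ ∀ v (hv : S.Ω.B v v = 0) l, σ l = -l → S.Ω.tv l v hv ∈ M := by
  by_cases hS : S.Small M
  · refine Or.inl fun g hg => ?_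
    by_cases hS' : S.flip.Small M
    · by_cases htwo : (2 : F) = 0
      · exact S.dec_two htwo hM hS hS' ha hb hba hg
      · exact S.dec_odd htwo hM hS hS' ha hb hba hg
    · exact absurd hS (S.not_small_of_flip hM ha hb hS')
  · exact Or.inr (S.tv_mem hM ha hb hex hS)

/-- A non-trivial transvection at a pure singular vector is not decomposable. -/
theorem not_dec_tv (ha : 4 ≤ finrank F W) (hb : 2 ≤ finrank F X) {c : W} (hc0 : c ≠ 0)
    {y : X} (hy0 : y ≠ 0) (hv : S.Ω.B (S.t c y) (S.t c y) = 0) {l : F} (hl : l ≠ 0) :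
    ¬ S.Dec (S.Ω.tv l (S.t c y) hv) := by
  rintro ⟨A, B, hAB⟩
  set g := S.Ω.tv l (S.t c y) hv with hg
  set D := Submodule.span F {S.t c y} with hD
  have hmem : ∀ p, g p - p ∈ D := fun p => by
    rw [hg, Herm.tv_apply, add_sub_cancel_left]
    exact D.smul_mem _ (D.smul_mem _ (Submodule.mem_span_singleton_self _))
  have hD1 : finrank F D ≤ 1 := (finrank_span_le_card ({S.t c y} : Set V)).trans (by simp)
  obtain ⟨ν, hν⟩ : ∃ ν : F, B = ν • LinearMap.id := by
    refine S.K.scalar_of_eigen fun x => ?_
    by_contra hx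
    push Not at hx
    obtain ⟨z, hz1, hz2⟩ := S.K.exists_perp_one hx
    let φ : W →ₗ[F] D := LinearMap.codRestrict D (((g : V →ₗ[F] V) - 1) ∘ₗ S.t.flip x) fun w => hmem (S.t w x)
    have hφ : Function.Injective φ := (injective_iff_map_eq_zero φ).2 fun w hw => by
      have h1 : g (S.t w x) - S.t w x = 0 := congrArg Subtype.val hw
      rw [hAB] at h1
      have h2 := congrArg (S.flip.P z) h1
      rw [map_sub, ← S.flip_t, ← S.flip_t, S.flip.P_pure, S.flip.P_pure, map_zero] at h2
      change S.K.B (B x) z • A w - S.K.B x z • w = 0 at h2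
      rw [hz1, hz2, one_smul, zero_smul, sub_zero] at h2
      exact (S.dec_injective hAB).1 (h2.trans (map_zero A).symm)
    have := LinearMap.finrank_le_finrank_of_injective hφ
    omega
  have hN : ∀ w, ν • A w - w = 0 := fun w => by
    by_contra hw
    have hli : LinearIndependent F ![ν • A w - w] := LinearIndependent.of_subsingleton 0 hw
    have h1 := S.finrank_indep hli ⊤ (D := D) fun i x _ => by
      fin_cases i
      have h2 := hmem (S.t w x)
      rw [hAB, hν, LinearMap.smul_apply, LinearMap.id_apply, map_smul] at h2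
      simpa using h2
    rw [Fintype.card_fin, finrank_top] at h1
    omega
  have hg1 : ∀ p, g p = p := LinearMap.congr_fun (S.ext_pure (f := g.toLinearMap) (g := LinearMap.id) fun w x => by
    show g (S.t w x) = S.t w x
    rw [hAB, hν, LinearMap.smul_apply, LinearMap.id_apply, map_smul, ← LinearMap.smul_apply, ← map_smul,
      sub_eq_zero.1 (hN w)])
  have hty : S.t c y ≠ 0 := fun h => hy0 (S.t_inj hc0 h)
  obtain ⟨p, hp⟩ := S.Ω.exists_one hty
  have h1 := hg1 p
  rw [hg, Herm.tv_apply, add_eq_left, S.Ω.eq_one_symm hp, one_smul, smul_eq_zero] at h1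
  exact h1.elim hl hty

end Sys

end Cfsg.Agent.H98.TensorUnit
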