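import Cfsg.Agent.H98.TensorUnit.Pair
import Cfsg.Agent.H24.Tensor.Dichotomy

/-!
In odd characteristic, in the absence of non-scalar radical elements, every element is decomposable.
-/

set_option autoImplicit false
set_option maxHeartbeats 1000000
set_option linter.style.haveILetI false
set_option linter.unusedSectionVars false

namespace Cfsg.Agent.H98.TensorUnit

open Module

variable {F : Type*} [Field F] [Finite F] {σ : F ≃+* F} {V W X : Type*}
  [AddCommGroup V] [Module F V] [FiniteDimensional F V]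
  [AddCommGroup W] [Module F W] [FiniteDimensional F W]
  [AddCommGroup X] [Module F X] [FiniteDimensional F X]

namespace Sys

variable (S : Sys F σ V W X) {M : Subgroup (V ≃ₗ[F] V)}

theorem dec_odd (htwo : (2 : F) ≠ 0) (hM : S.Over M) (hS : S.Small M) (hS' : S.flip.Small M)
    (ha : 4 ≤ finrank F W) (hb : 2 ≤ finrank F X) (hba : finrank F X < finrank F W) {g : V ≃ₗ[F] V}
    (hg : g ∈ M) : S.Dec g := by
  have hgi := hM.iso _ hg
  obtain ⟨c, hc0, hc⟩ := S.H.exists_isotropic (by omega)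
  obtain ⟨y, hy0, hy⟩ := S.K.exists_isotropic hb
  set L := S.lk g c y with hLdef
  set L' := S.lk' g c y with hL'def
  set T := S.lkT g c y with hTdef
  have hTx : ∀ x, T x = L (L' x) := fun x => rfl
  by_cases hTn : IsNilpotent T
  · exact S.dec_of_nilpotent hM hS hS' (by omega) hba hg hc0 hc hy0 hy hTn
  obtain ⟨δ, hδ0, hδ⟩ := S.H.exists_skew
  set z := g * S.flip.up y hy (δ • LinearMap.id) * g⁻¹ with hz
  have hzM : z ∈ M := M.mul_mem (M.mul_mem hg (S.flip.up_scalar_mem (Over.flip S hM) hy0 hy hδ)) (M.inv_mem hg)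
  have hzi := hM.iso _ hzM
  set d := S.up c hc (δ • LinearMap.id) with hd
  have hdM : d ∈ M := S.up_scalar_mem hM hc0 hc hδ
  have hzc : ∀ x, z (S.t c x) = S.t c x + δ • g (S.t (L' x) y) := fun x => by
    show g (S.flip.up y hy (δ • LinearMap.id) (g.symm (S.t c x))) = _
    rw [S.flip.up_apply, map_add, g.apply_symm_apply, LinearMap.smul_apply, LinearMap.id_apply, map_smul,
      map_smul]
    rfl
  have hPz : ∀ x, S.P c (z (S.t c x)) = δ • T x := fun x => by
    rw [hzc, map_add, map_smul, S.P_pure, hc, zero_smul, zero_add]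
    rfl
  have hPz' : ∀ x, S.P c (z.symm (S.t c x)) = -(δ • T x) := fun x => S.K.ext_left fun x' => by
    rw [S.P_B, ← hzi, z.apply_symm_apply, ← S.B_P, hPz, S.K.smul_right, hδ, S.K.neg_left, S.K.smul_left,
      S.lkT_self hgi]
    ring
  -- the involution
  let toU := (LinearMap.GeneralLinearGroup.generalLinearEquiv F V).symm
  obtain ⟨j₀, hj₀, a, hj₀1, hj₀2, ha2, hTa, hj₀c, hj₀z, haker, -, hj₀im⟩ :=
    ((Cfsg.Agent.H24.Tensor.dichotomy htwo (S.t c) (δ • S.P c)
      (fun x x' h => by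
        have h1 : S.t c (x - x') = 0 := by rw [map_sub, h, sub_self]
        exact sub_eq_zero.1 (S.t_inj hc0 h1))
      (LinearMap.ext fun x => by simp [S.P_pure, hc]) (toU d) (toU z)
      (LinearMap.ext fun v => by
        show d v = v + S.t c (δ • S.P c v)
        rw [hd, S.up_apply]; rfl)
      ((δ * δ) • T) (LinearMap.ext fun x => by
        show δ • S.P c (z (S.t c x)) = (δ * δ) • T x
        rw [hPz, smul_smul])
      (LinearMap.ext fun x => by
        show δ • S.P c (z.symm (S.t c x)) = -((δ * δ) • T x)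
        rw [hPz', smul_neg, smul_smul])).resolve_left fun ⟨n, hn⟩ => hTn ⟨n, by
          rw [smul_pow] at hn
          exact (smul_eq_zero.1 hn).resolve_left (pow_ne_zero n (mul_ne_zero hδ0 hδ0))⟩)
  set j := toU.symm j₀ with hj
  have hjM : j ∈ M := by
    have h1 : Subgroup.closure ({toU d, toU z * toU d * (toU z)⁻¹} : Set _) ≤ M.comap toU.symm.toMonoidHom := by
      rw [Subgroup.closure_le]
      rintro _ (rfl | rfl)
      · show toU.symm (toU d) ∈ M
        rw [MulEquiv.symm_apply_apply]; exact hdM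
      · show toU.symm (toU z * toU d * (toU z)⁻¹) ∈ M
        rw [map_mul, map_mul, map_inv, MulEquiv.symm_apply_apply, MulEquiv.symm_apply_apply]
        exact M.mul_mem (M.mul_mem hzM hdM) (M.inv_mem hzM)
    exact h1 hj₀
  have hji := hM.iso _ hjM
  have hjc : ∀ x, j (S.t c x) = S.t c (a x) := hj₀c
  have hjz : ∀ x, j (z (S.t c x)) = z (S.t c (a x)) := hj₀z
  have hj2 : ∀ v, j (j v) = v := fun v => by
    have h1 : j * j = 1 := by rw [hj, ← map_mul, hj₀2, map_one]
    exact LinearEquiv.congr_fun h1 v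
  have hj1 : j ≠ 1 := fun h => hj₀1 (by
    rw [← MulEquiv.apply_symm_apply toU j₀, ← hj, h, map_one])
  have hjm : ∀ v, j v = -v → ∃ x x', a x = -x ∧ a x' = -x' ∧ v = S.t c x + z (S.t c x') := hj₀im
  have hTa' : ∀ x, T (a x) = a (T x) := fun x => by
    have h := LinearMap.congr_fun hTa x
    simp only [Module.End.mul_apply, LinearMap.smul_apply, map_smul] at h
    exact smul_right_injective X (mul_ne_zero hδ0 hδ0) h
  have haker' : ∀ x, T x = 0 → a x = x := fun x hx => haker x (by rw [LinearMap.smul_apply, hx, smul_zero])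
  have haa : ∀ x, a (a x) = x := LinearMap.congr_fun ha2
  obtain ⟨x0, hx0⟩ := S.X0
  obtain ⟨A, hAc, hA⟩ := S.dec_normal (S.line hM hS hjM hc0 hc hc0 fun x => ⟨_, hjc x⟩) hc0 hjc
  have hAA : ∀ w, A (A w) = w := fun w => by
    have h1 := hj2 (S.t w x0)
    rw [hA, hA, haa] at h1
    exact sub_eq_zero.1 (S.t_inj_left hx0 (by rw [map_sub, LinearMap.sub_apply, h1, sub_self]))
  obtain ⟨ν, -, hνH, hνK⟩ := S.dec_similitude hji hA
  have hν : ν = 1 := by
    obtain ⟨x', hx'⟩ : ∃ x', T x' ≠ 0 := by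
      by_contra hcon
      push Not at hcon
      exact hTn ⟨1, by rw [pow_one]; exact LinearMap.ext hcon⟩
    obtain ⟨x, hx⟩ := S.K.exists_one hx'
    have h1 := hji (S.t c x) (z (S.t c x'))
    rw [hjc, hjz, ← S.B_P, ← S.B_P, hPz, hPz, S.K.smul_right, S.K.smul_right, hTa', hνK,
      S.K.eq_one_symm hx] at h1
    have hσδ : σ δ ≠ 0 := (map_ne_zero σ).2 hδ0
    exact mul_right_cancel₀ hσδ (by linear_combination h1)
  have hAi : ∀ w u, S.H.B (A w) (A u) = S.H.B w u := fun w u => by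
    have := hνH w u; rwa [hν, mul_one] at this
  have hAadj : ∀ w u, S.H.B w (A u) = S.H.B (A w) u := fun w u => by rw [← hAi w, hAA]
  obtain ⟨e, -, hce⟩ := S.H.exists_partner hc0 hc
  set h₂ := e + A e with hh₂
  have hAh : A h₂ = h₂ := by rw [hh₂, map_add, hAA]; abel
  have hch : S.H.B c h₂ = 2 := by
    rw [hh₂, S.H.add_right, hAadj, hAc, hce]; norm_num
  have hli : LinearIndependent F ![c, h₂] :=
    (LinearIndependent.pair_iff' hc0).2 fun k hk => htwo (by rw [← hch, ← hk, S.H.smul_right, hc, mul_zero])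
  -- the `-1` eigenspaces
  set Xm := LinearMap.ker (a + 1) with hXm
  have hXm' : ∀ x, x ∈ Xm ↔ a x = -x := fun x => by
    rw [hXm, LinearMap.mem_ker, LinearMap.add_apply, Module.End.one_apply, add_eq_zero_iff_eq_neg]
  set D : Submodule F V := Xm.map (S.t c) ⊔ Xm.map (z.toLinearMap ∘ₗ S.t c) with hD
  have hDfin : finrank F D ≤ 2 * finrank F Xm := by
    refine (Submodule.finrank_add_le_finrank_add_finrank _ _).trans ?_
    have h3 := Submodule.finrank_map_le (S.t c) Xm
    have h4 := Submodule.finrank_map_le (z.toLinearMap ∘ₗ S.t c) Xm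
    omega
  have hneg : ∀ v, j v = -v → v ∈ D := fun v hv => by
    obtain ⟨x, x', hx, hx', rfl⟩ := hjm v hv
    exact D.add_mem (Submodule.mem_sup_left (Submodule.mem_map_of_mem ((hXm' x).2 hx)))
      (Submodule.mem_sup_right ⟨x', (hXm' x').2 hx', rfl⟩)
  have hdiff : ∀ v, j v - v ∈ D := fun v => hneg _ (by rw [map_sub, hj2]; abel)
  have hm : 0 < finrank F Xm := by
    by_contra h0
    have hD0 : finrank F D = 0 := by omega
    rw [Submodule.finrank_eq_zero] at hD0
    refine hj1 (LinearEquiv.ext fun v => ?_)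
    have h1 := hdiff v
    rw [hD0, Submodule.mem_bot, sub_eq_zero] at h1
    exact h1
  have hAplus : finrank F (LinearMap.ker (A - 1)) ≤ 2 := by
    let β := finBasis F (LinearMap.ker (A - 1))
    have h1 := S.finrank_indep (w := fun i => (β i : W)) (β.linearIndependent.map' _ (Submodule.ker_subtype _))
      Xm (D := D) fun i x hx => hneg _ (by
        have h2 := LinearMap.mem_ker.1 (β i).2
        rw [LinearMap.sub_apply, Module.End.one_apply, sub_eq_zero] at h2
        rw [hA, h2, (hXm' x).1 hx, map_neg])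
    rw [Fintype.card_fin] at h1
    exact Nat.le_of_mul_le_mul_right (h1.trans hDfin) hm
  obtain ⟨w₀, hw₀0, hw₀⟩ : ∃ w₀, w₀ ≠ 0 ∧ A w₀ = -w₀ := by
    by_contra hcon
    push Not at hcon
    have h1 : LinearMap.ker (A - 1) = ⊤ := eq_top_iff.2 fun w _ => by
      by_contra hw
      exact hcon (A w - w) (fun h => hw (by simpa using h)) (by rw [map_sub, hAA]; abel)
    rw [h1, finrank_top] at hAplus
    omega
  set Dh : Submodule F V := Xm.map (S.t c) ⊔ Xm.map (S.t h₂) with hDh
  have hDhD : Dh = D := by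
    refine Submodule.eq_of_le_of_finrank_le (sup_le ?_ ?_) ?_
    · rintro _ ⟨x, hx, rfl⟩
      exact hneg _ (by rw [hA, hAc, (hXm' x).1 hx, map_neg])
    · rintro _ ⟨x, hx, rfl⟩
      exact hneg _ (by rw [hA, hAh, (hXm' x).1 hx, map_neg])
    · have h1 := S.finrank_indep hli Xm (D := Dh) fun i x hx => by
        fin_cases i
        · exact Submodule.mem_sup_left (Submodule.mem_map_of_mem hx)
        · exact Submodule.mem_sup_right (Submodule.mem_map_of_mem hx)
      rw [Fintype.card_fin] at h1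
      omega
  have haneg : ∀ x, a x = -x := by
    obtain ⟨u₀, hu₀⟩ := S.H.exists_one hw₀0
    set u := (2 : F)⁻¹ • (u₀ - A u₀) with hu
    have hAu : ∀ w, A w = w → S.H.B w u = 0 := fun w hw => by
      rw [hu, S.H.smul_right, S.H.sub_right, hAadj, hw, sub_self, mul_zero]
    have hw₀u : S.H.B w₀ u = 1 := by
      rw [hu, S.H.smul_right, S.H.sub_right, hAadj, hw₀, S.H.neg_left, hu₀, map_inv₀, map_ofNat]
      field_simp
      norm_num
    have hplus : ∀ x, a x = x → x = 0 := fun x hx => by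
      have h1 : S.t w₀ x ∈ Dh := hDhD ▸ hneg _ (by rw [hA, hw₀, hx, map_neg, LinearMap.neg_apply])
      obtain ⟨_, ⟨x1, -, rfl⟩, _, ⟨x2, -, rfl⟩, hsum⟩ := Submodule.mem_sup.1 h1
      have h2 := congrArg (S.P u) hsum
      rw [map_add, S.P_pure, S.P_pure, S.P_pure, hAu c hAc, hAu h₂ hAh, hw₀u, zero_smul, zero_smul, one_smul,
        add_zero] at h2
      exact h2.symm
    intro x
    exact add_eq_zero_iff_eq_neg.1 (hplus _ (by rw [map_add, haa]; abel))
  have hXtop : ∀ x, x ∈ Xm := fun x => (hXm' x).2 (haneg x)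
  have hTinj : Function.Injective T := (injective_iff_map_eq_zero T).2 fun x hx => by
    have h1 := (haneg x).symm.trans (haker' x hx)
    rw [neg_eq_iff_add_eq_zero, ← two_smul F, smul_eq_zero] at h1
    exact h1.resolve_left htwo
  let Te := LinearEquiv.ofInjectiveEndo T hTinj
  let P₀ : W →ₗ[F] W := L' ∘ₗ Te.symm.toLinearMap ∘ₗ L
  have hLP : ∀ w, L (w - P₀ w) = 0 := fun w => by
    rw [map_sub, sub_eq_zero]
    exact (Te.apply_symm_apply (L w)).symm
  have hgR : ∀ x, j (g (S.t (L' x) y)) = -g (S.t (L' x) y) := fun x => by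
    have h1 := congrArg j (hzc x)
    rw [hjz, map_add, map_smul, hjc, haneg, map_neg, map_neg, hzc] at h1
    refine smul_right_injective V hδ0 ?_
    show δ • j _ = δ • -_
    linear_combination (norm := module) -h1
  have hgK : ∀ k, L k = 0 → j (g (S.t k y)) = g (S.t k y) := fun k hk => by
    set v := g (S.t k y) with hv
    have hperp : ∀ q ∈ D, S.Ω.B v q = 0 := fun q hq => by
      obtain ⟨_, ⟨x1, -, rfl⟩, _, ⟨x2, -, rfl⟩, rfl⟩ := Submodule.mem_sup.1 hq
      have h0 : ∀ x, S.Ω.B v (S.t c x) = 0 := fun x => by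
        rw [← S.P_B, hv, show S.P c (g (S.t k y)) = L k from rfl, hk, S.K.zero_left]
      rw [S.Ω.add_right, LinearMap.comp_apply, LinearEquiv.coe_coe, hzc, S.Ω.add_right, S.Ω.smul_right, h0, h0,
        hv, hgi, S.ω_pure, hy]
      simp
    refine sub_eq_zero.1 (S.Ω.nd _ fun q => ?_)
    have h1 : S.Ω.B (j v) q = S.Ω.B v (j q) := by rw [← hji, hj2]
    rw [S.Ω.sub_left, h1, ← S.Ω.sub_right, hperp _ (hdiff q)]
  -- the conjugate involution
  set j' := g⁻¹ * j * g with hj'
  have hj'M : j' ∈ M := M.mul_mem (M.mul_mem (M.inv_mem hg) hjM) hg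
  let A₀ : W →ₗ[F] W := LinearMap.id - (2 : F) • P₀
  have hj'y : ∀ w, j' (S.t w y) = S.t (A₀ w) y := fun w => by
    show g.symm (j (g (S.t w y))) = _
    have h1 : j (g (S.t w y)) = g (S.t (A₀ w) y) := by
      conv_lhs => rw [show w = P₀ w + (w - P₀ w) by abel, map_add, LinearMap.add_apply, map_add, map_add]
      rw [hgK _ (hLP w), show P₀ w = L' (Te.symm (L w)) from rfl, hgR]
      simp only [A₀, LinearMap.sub_apply, LinearMap.id_apply, LinearMap.smul_apply, map_sub, map_smul]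
      rw [show P₀ w = L' (Te.symm (L w)) from rfl]
      module
    rw [h1, g.symm_apply_apply]
  obtain ⟨B, hBy, hB⟩ := S.flip.dec_normal
    (S.flip.line (Over.flip S hM) hS' hj'M hy0 hy hy0 fun w => ⟨_, hj'y w⟩) hy0 (a := A₀) hj'y
  have hB' : ∀ w x, j' (S.t w x) = S.t (A₀ w) (B x) := fun w x => hB x w
  have hA₀ : ∀ k, L k = 0 → A₀ k = k := fun k hk => by simp [A₀, P₀, hk]
  have hperpR : ∀ x k, L k = 0 → S.H.B (L' x) k = 0 := fun x k hk => by
    rw [hL'def, S.lk_adj hgi, ← hLdef, hk, S.K.zero_right]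
  have hkerdim : finrank F W ≤ finrank F (LinearMap.ker L) + finrank F X := by
    have h1 := LinearMap.finrank_range_add_finrank_ker L
    have h2 := Submodule.finrank_le (LinearMap.range L)
    omega
  obtain ⟨k₀, hk₀, hk₀0⟩ := Submodule.exists_mem_ne_zero_of_ne_bot (p := LinearMap.ker L) fun h => by
    rw [h, finrank_bot] at hkerdim; omega
  obtain ⟨u₀, hu₀⟩ := S.H.exists_one hk₀0
  set k₁ := u₀ - P₀ u₀ with hk₁
  have hk₀₁ : S.H.B k₀ k₁ = 1 := by
    rw [hk₁, S.H.sub_right, hu₀, show P₀ u₀ = L' _ from rfl, S.H.eq_zero_symm (hperpR _ _ hk₀), sub_zero]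
  obtain ⟨ν', -, hνH', hνK'⟩ := S.dec_similitude (hM.iso _ hj'M) hB'
  have hν' : ν' = 1 := by
    have h1 := hνH' k₀ k₁
    rw [hA₀ _ hk₀, hA₀ _ (hLP u₀), hk₀₁, one_mul] at h1
    exact h1
  have hj'2 : ∀ v, j' (j' v) = v := fun v => by
    show g.symm (j (g (g.symm (j (g v))))) = v
    rw [g.apply_symm_apply, hj2, g.symm_apply_apply]
  have hBB : ∀ x, B (B x) = x := fun x => by
    have h1 := hj'2 (S.t k₀ x)
    rw [hB', hB', hA₀ _ hk₀, hA₀ _ hk₀] at h1
    exact sub_eq_zero.1 (S.t_inj hk₀0 (by rw [map_sub, h1, sub_self]))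
  obtain ⟨ey, -, hyey⟩ := S.K.exists_partner hy0 hy
  set y₂ := ey + B ey with hy₂
  have hBy₂ : B y₂ = y₂ := by rw [hy₂, map_add, hBB]; abel
  have hyy₂ : S.K.B y y₂ = 2 := by
    have h1 : S.K.B y (B ey) = S.K.B y ey := by
      conv_lhs => rw [← hBy]
      rw [hνK', hν', one_mul]
    rw [hy₂, S.K.add_right, h1, hyey]; norm_num
  have hliy : LinearIndependent F ![y, y₂] :=
    (LinearIndependent.pair_iff' hy0).2 fun k hk => htwo (by rw [← hyy₂, ← hk, S.K.smul_right, hy, mul_zero])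
  set D' := D.map g.symm.toLinearMap with hD'
  have hXm2 : finrank F Xm ≤ finrank F X := Submodule.finrank_le _
  have hD'fin : finrank F D' ≤ 2 * finrank F X := by
    have := Submodule.finrank_map_le g.symm.toLinearMap D
    rw [← hD'] at this
    omega
  have hneg' : ∀ v, j' v = -v → v ∈ D' := fun v hv => by
    refine ⟨g v, hneg _ ?_, g.symm_apply_apply v⟩
    have h1 := congrArg g hv
    rw [map_neg] at h1
    rw [← h1]
    exact (g.apply_symm_apply _).symm
  set R' := LinearMap.range L' with hR'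
  have hL'inj : Function.Injective L' := fun x x' h => hTinj (by rw [hTx, hTx, h])
  have hR'fin : finrank F R' = finrank F X := LinearMap.finrank_range_of_inj hL'inj
  have hA₀R : ∀ x, A₀ (L' x) = -L' x := fun x => by
    have h2 : P₀ (L' x) = L' x := congrArg L' (Te.symm_apply_apply x)
    simp only [A₀, LinearMap.sub_apply, LinearMap.id_apply, LinearMap.smul_apply, h2]
    module
  set D'' : Submodule F V := R'.map (S.t.flip y) ⊔ R'.map (S.t.flip y₂) with hD''
  have hD''D : D'' = D' := by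
    refine Submodule.eq_of_le_of_finrank_le (sup_le ?_ ?_) ?_
    · rintro _ ⟨_, ⟨x, rfl⟩, rfl⟩
      exact hneg' _ (by rw [LinearMap.flip_apply, hB', hA₀R, hBy, map_neg, LinearMap.neg_apply])
    · rintro _ ⟨_, ⟨x, rfl⟩, rfl⟩
      exact hneg' _ (by rw [LinearMap.flip_apply, hB', hA₀R, hBy₂, map_neg, LinearMap.neg_apply])
    · have h1 := S.flip.finrank_indep hliy R' (D := D'') fun i w hw => by
        fin_cases i
        · exact Submodule.mem_sup_left ⟨w, hw, rfl⟩
        · exact Submodule.mem_sup_right ⟨w, hw, rfl⟩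
      rw [Fintype.card_fin, hR'fin] at h1
      omega
  have hB1 : ∀ x, B x = x := by
    intro x
    have h1 : S.t k₀ (B x - x) ∈ D'' := hD''D ▸ hneg' _ (by
      rw [hB', hA₀ _ hk₀, map_sub, hBB, ← neg_sub (B x), map_neg])
    obtain ⟨_, ⟨_, ⟨x1, rfl⟩, rfl⟩, _, ⟨_, ⟨x2, rfl⟩, rfl⟩, hsum⟩ := Submodule.mem_sup.1 h1
    have h2 := congrArg (S.P k₁) hsum
    rw [map_add, LinearMap.flip_apply, LinearMap.flip_apply, S.P_pure, S.P_pure, S.P_pure, hk₀₁,
      hperpR x1 k₁ (hLP u₀), hperpR x2 k₁ (hLP u₀), zero_smul, zero_smul, one_smul, add_zero] at h2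
    exact sub_eq_zero.1 h2.symm
  have hRX : ∀ x x', S.t (L' x) x' ∈ D' := fun x x' => hneg' _ (by
    rw [hB', hA₀R, hB1, map_neg, LinearMap.neg_apply])
  have hb2 : finrank F X ≤ 2 := by
    let β := finBasis F X
    have h1 := S.finrank_indep (w := fun i => L' (β i))
      (β.linearIndependent.map' L' (LinearMap.ker_eq_bot.2 hL'inj)) ⊤ (D := D') fun i x _ => hRX _ x
    rw [Fintype.card_fin, finrank_top] at h1
    exact Nat.le_of_mul_le_mul_right (h1.trans hD'fin) (by omega)
  obtain ⟨f, hfK, hf0, hff⟩ := S.H.exists_iso_mem (U := LinearMap.ker L) (by omega)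
  have hfc : ∀ x x', S.Ω.B (S.t c x) (g (S.t f x')) = 0 := fun x x' => by
    have h1 : g.symm (S.t c x) ∈ D'' :=
      hD''D ▸ Submodule.mem_map_of_mem (Submodule.mem_sup_left (Submodule.mem_map_of_mem (hXtop x)))
    obtain ⟨_, ⟨_, ⟨x1, rfl⟩, rfl⟩, _, ⟨_, ⟨x2, rfl⟩, rfl⟩, hsum⟩ := Submodule.mem_sup.1 h1
    rw [← g.apply_symm_apply (S.t c x), hgi, ← hsum, S.Ω.add_left, LinearMap.flip_apply, LinearMap.flip_apply,
      S.ω_pure, S.ω_pure, hperpR x1 f hfK, hperpR x2 f hfK]
    ring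
  set g1 := g * S.up f hff (δ • LinearMap.id) * g⁻¹ with hg1
  have hg1v : ∀ v, g1 v = v + δ • g (S.t f (S.P f (g.symm v))) := fun v => by
    show g (S.up f hff (δ • LinearMap.id) (g.symm v)) = _
    rw [S.up_apply, map_add, g.apply_symm_apply, LinearMap.smul_apply, LinearMap.id_apply, map_smul, map_smul]
  have hP1 : ∀ x, S.P c (g (S.t f x)) = 0 := fun x => S.K.nd_right fun x' => by rw [S.B_P, hfc]
  have hP2 : ∀ x, S.P f (g.symm (S.t c x)) = 0 := fun x => S.K.nd _ fun x' => by
    rw [S.P_B, ← hgi, g.apply_symm_apply, hfc]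
  have hcomm : Commute g1 d := LinearEquiv.ext fun v => by
    simp only [LinearEquiv.mul_apply, hg1v, hd, S.up_apply, map_add, map_smul, LinearMap.smul_apply,
      LinearMap.id_apply, hP1, hP2, map_zero, smul_zero, add_zero]
    abel
  exact S.dec_of_conj hM hS hba hg hf0 hff hδ0 (S.dec_of_commute hM hS
    (M.mul_mem (M.mul_mem hg (S.up_scalar_mem hM hf0 hff hδ)) (M.inv_mem hg)) hc0 hc hδ0 hcomm)

end Sys

end Cfsg.Agent.H98.TensorUnit
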