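import Cfsg.Agent.H98.TensorUnit.Line

/-!
The elements at a singular factor space: conjugation, and from a non-scalar one on either side to a non-scalar one
on the larger side.
-/

set_option autoImplicit false
set_option maxHeartbeats 1000000
set_option linter.style.haveILetI false
set_option linter.unusedSectionVars false

namespace Cfsg.Agent.H98.TensorUnit

open Module

variable {F : Type*} [Field F] [Finite F] {σ : F ≃+* F} {V W X : Type*}
  [AddCommGroup V] [Module F V] [FiniteDimensional F V]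
  [AddCommGroup W] [Module F W] [FiniteDimensional F W]
  [AddCommGroup X] [Module F X] [FiniteDimensional F X]

namespace Herm

variable (h : Herm F σ X)

theorem tv_unipotent (l : F) {v : X} (hv : h.B v v = 0) :
    (((h.tv l v hv : X ≃ₗ[F] X) : Module.End F X) - 1) ^ 2 = 0 := LinearMap.ext fun x => by
  rw [pow_two]
  simp [h.tv_apply, h.add_left, h.smul_left, hv]

theorem siegel_unipotent {c f : X} {k : F} (hcc : h.B c c = 0) (hfc : h.B f c = 0) (hk : k + σ k = -h.B f f) :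
    (((h.siegel c f k hcc hfc hk : X ≃ₗ[F] X) : Module.End F X) - 1) ^ 3 = 0 := LinearMap.ext fun x => by
  show ((h.siegel c f k hcc hfc hk : Module.End F X) - 1) (((h.siegel c f k hcc hfc hk : Module.End F X) - 1)
    (((h.siegel c f k hcc hfc hk : Module.End F X) - 1) x)) = 0
  simp [h.siegel_apply, h.add_left, h.sub_left, h.smul_left, h.neg_left, hcc, hfc, h.eq_zero_symm hfc]

theorem symm_adj {Q : X ≃ₗ[F] X} (hQ : ∀ x y, h.B (Q x) (Q y) = h.B x y) (x y : X) :
    h.B (Q.symm x) y = h.B x (Q y) := by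
  rw [← hQ (Q.symm x) y, Q.apply_symm_apply]

end Herm

namespace Sys

variable (S : Sys F σ V W X) {M : Subgroup (V ≃ₗ[F] V)}

theorem det_tens_right {Q : X ≃ₗ[F] X} {n : ℕ} (hQ : ((Q : Module.End F X) - 1) ^ n = 0) :
    LinearEquiv.det (S.tens (LinearEquiv.refl F W) Q) = 1 := by
  have h : S.tens (LinearEquiv.refl F W) Q = S.flip.tens Q (LinearEquiv.refl F W) :=
    S.ext_equiv fun w x => by
      rw [S.tens_pure]
      exact (S.flip.tens_pure Q (LinearEquiv.refl F W) x w).symm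
  rw [h]
  exact S.flip.det_tens hQ

/-- Conjugation by a unipotent isometry of the second factor. -/
theorem up_conj_mem (hM : S.Over M) {Q : X ≃ₗ[F] X} {n : ℕ} (hQu : ((Q : Module.End F X) - 1) ^ n = 0)
    (hQ : ∀ x y, S.K.B (Q x) (Q y) = S.K.B x y) {c : W} (hc : S.H.B c c = 0) {A : X →ₗ[F] X}
    (hA : S.up c hc A ∈ M) : S.up c hc (Q.toLinearMap ∘ₗ A ∘ₗ Q.symm.toLinearMap) ∈ M := by
  set T := S.tens (LinearEquiv.refl F W) Q with hT
  have hTM : T ∈ M := hM.dec _ (S.tens_iso fun w u x y => by rw [LinearEquiv.refl_apply, LinearEquiv.refl_apply, hQ])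
    (S.det_tens_right hQu) (S.tens_dec _ _)
  suffices S.up c hc (Q.toLinearMap ∘ₗ A ∘ₗ Q.symm.toLinearMap) = T * S.up c hc A * T⁻¹ by
    rw [this]; exact M.mul_mem (M.mul_mem hTM hA) (M.inv_mem hTM)
  have hP : ∀ v, S.P c (T v) = Q (S.P c v) :=
    LinearMap.congr_fun (S.ext_pure (f := S.P c ∘ₗ T.toLinearMap) (g := Q.toLinearMap ∘ₗ S.P c) fun w x => by
      show S.P c (T (S.t w x)) = Q (S.P c (S.t w x))
      rw [hT, S.tens_pure, S.P_pure, S.P_pure, map_smul, LinearEquiv.refl_apply])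
  rw [eq_mul_inv_iff_mul_eq]
  refine LinearEquiv.ext fun v => ?_
  rw [LinearEquiv.mul_apply, LinearEquiv.mul_apply, S.up_apply, S.up_apply, hP, map_add]
  simp only [LinearMap.comp_apply, LinearEquiv.coe_coe, Q.symm_apply_apply]
  rw [hT, S.tens_pure, LinearEquiv.refl_apply]

/-- Transport along a unipotent isometry of the first factor. -/
theorem up_transport (hM : S.Over M) {A₀ : W ≃ₗ[F] W} {n : ℕ} (hu : ((A₀ : Module.End F W) - 1) ^ n = 0)
    (hi : ∀ w u, S.H.B (A₀ w) (A₀ u) = S.H.B w u) {c : W} (hc : S.H.B c c = 0) {A : X →ₗ[F] X}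
    (hA : S.up c hc A ∈ M) : S.up (A₀ c) (by rw [hi, hc]) A ∈ M := by
  set T := S.tens A₀ (LinearEquiv.refl F X) with hT
  have hTM : T ∈ M := hM.dec _ (S.tens_iso fun w u x y => by rw [LinearEquiv.refl_apply, LinearEquiv.refl_apply, hi])
    (S.det_tens hu) (S.tens_dec _ _)
  suffices S.up (A₀ c) (by rw [hi, hc]) A = T * S.up c hc A * T⁻¹ by
    rw [this]; exact M.mul_mem (M.mul_mem hTM hA) (M.inv_mem hTM)
  have hP : ∀ v, S.P (A₀ c) (T v) = S.P c v :=
    LinearMap.congr_fun (S.ext_pure (f := S.P (A₀ c) ∘ₗ T.toLinearMap) (g := S.P c) fun w x => by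
      show S.P (A₀ c) (T (S.t w x)) = S.P c (S.t w x)
      rw [hT, S.tens_pure, S.P_pure, S.P_pure, hi, LinearEquiv.refl_apply])
  rw [eq_mul_inv_iff_mul_eq]
  refine LinearEquiv.ext fun v => ?_
  rw [LinearEquiv.mul_apply, LinearEquiv.mul_apply, S.up_apply, S.up_apply, hP, map_add, hT, S.tens_pure,
    LinearEquiv.refl_apply]

/-- The maps `A` with `c ⊗ A` in `M`. -/
noncomputable def radGrp (M : Subgroup (V ≃ₗ[F] V)) (c : W) (hc : S.H.B c c = 0) : AddSubgroup (X →ₗ[F] X) where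
  carrier := {A | S.up c hc A ∈ M}
  zero_mem' := by
    show S.up c hc 0 ∈ M
    rw [S.up_zero]; exact M.one_mem
  add_mem' {A B} hA hB := by
    show S.up c hc (A + B) ∈ M
    rw [← S.up_add]; exact M.mul_mem hA hB
  neg_mem' {A} hA := by
    show S.up c hc (-A) ∈ M
    rw [← S.up_inv]; exact M.inv_mem hA

theorem mem_radGrp {c : W} (hc : S.H.B c c = 0) {A : X →ₗ[F] X} : A ∈ S.radGrp M c hc ↔ S.up c hc A ∈ M := Iff.rfl

theorem radGrp_skew (hM : S.Over M) {c : W} (hc0 : c ≠ 0) (hc : S.H.B c c = 0) {A : X →ₗ[F] X}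
    (hA : A ∈ S.radGrp M c hc) : S.K.Skew A := (S.up_iso_iff hc0 hc A).1 (hM.iso _ hA)

/-- A transvection conjugate minus the element. -/
theorem diff_tv {A : X →ₗ[F] X} (hA : S.K.Skew A) (l : F) {v : X} (hv : S.K.B v v = 0) (x : X) :
    S.K.tv l v hv (A ((S.K.tv l v hv).symm x)) - A x =
      (-l) • (S.K.B x v • A v + S.K.B x (A v) • v) + (-(l * l * S.K.B (A v) v)) • (S.K.B x v • v) := by
  have h1 : S.K.B (A x) v = -S.K.B x (A v) := eq_neg_of_add_eq_zero_left (hA x v)
  rw [S.K.tv_symm, S.K.tv_apply, map_add, map_smul, map_smul, S.K.add_left, S.K.smul_left, S.K.smul_left, h1]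
  module

/-- A non-scalar element gives one along a transvection, when the second factor is large. -/
theorem exists_root_rad (hM : S.Over M) (hb : 4 ≤ finrank F X) {c : W} (hc0 : c ≠ 0) (hc : S.H.B c c = 0)
    {A : X →ₗ[F] X} (hA : S.up c hc A ∈ M) (hns : ∀ k : F, A ≠ k • LinearMap.id) :
    ∃ v : X, v ≠ 0 ∧ S.K.B v v = 0 ∧ ∃ k : F, k ≠ 0 ∧ S.up c hc (k • S.K.dyad v v) ∈ M := by
  have hskew := S.radGrp_skew hM hc0 hc hA
  obtain ⟨v, hvv, hκ⟩ : ∃ v, S.K.B v v = 0 ∧ S.K.B (A v) v ≠ 0 := by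
    by_contra hcon
    push Not at hcon
    obtain ⟨k, hk⟩ := S.K.scalar_of_iso (by omega) hskew hcon
    exact hns k hk
  have hv0 : v ≠ 0 := fun h => hκ (by rw [h, S.K.zero_right])
  set w := A v with hw
  set κ := S.K.B w v with hκdef
  have hσκ : σ κ = -κ := hskew.self S.K v
  have hvw : S.K.B v w = -κ := by rw [← S.K.conj w v, ← hκdef, hσκ]
  obtain ⟨l, hl0, hl⟩ := S.K.exists_skew
  let B : X →ₗ[F] X := (-l) • (S.K.dyad w v + S.K.dyad v w) + (-(l * l * κ)) • S.K.dyad v v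
  have hB : B ∈ S.radGrp M c hc := by
    have h1 := S.up_conj_mem hM (S.K.tv_unipotent l hvv) (S.K.tv_iso hl hvv) hc hA
    have h2 : B = (S.K.tv l v hvv).toLinearMap ∘ₗ A ∘ₗ (S.K.tv l v hvv).symm.toLinearMap - A :=
      LinearMap.ext fun x => (S.diff_tv hskew l hvv x).symm
    rw [h2]
    exact (S.radGrp M c hc).sub_mem ((S.mem_radGrp hc).2 h1) ((S.mem_radGrp hc).2 hA)
  let D : X → F → (X →ₗ[F] X) := fun z k =>
    (-(l * κ)) • (S.K.dyad z v - S.K.dyad v z + (k - σ k) • S.K.dyad v v)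
  have hD : ∀ z k, S.K.B z v = 0 → S.K.B z w = 0 → k + σ k = -S.K.B z z → D z k ∈ S.radGrp M c hc := by
    intro z k hzv hzw hk
    set s := S.K.siegel v z k hvv hzv hk with hs
    have h1 := S.up_conj_mem hM (S.K.siegel_unipotent hvv hzv hk) (S.K.siegel_iso hvv hzv hk) hc hB
    suffices D z k = s.toLinearMap ∘ₗ B ∘ₗ s.symm.toLinearMap - B by
      rw [this]; exact (S.radGrp M c hc).sub_mem ((S.mem_radGrp hc).2 h1) hB
    have hsv : s v = v := by
      rw [hs, S.K.siegel_apply, hvv, S.K.eq_zero_symm hzv]; simp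
    have hsw : s w = w + κ • z + (k * κ) • v := by
      rw [hs, S.K.siegel_apply, ← hκdef, S.K.eq_zero_symm hzw, zero_smul, sub_zero, smul_smul]
    have hadj : ∀ x u, S.K.B (s.symm x) u = S.K.B x (s u) := S.K.symm_adj (S.K.siegel_iso hvv hzv hk)
    refine LinearMap.ext fun x => ?_
    simp only [D, B, LinearMap.sub_apply, LinearMap.comp_apply, LinearEquiv.coe_coe, LinearMap.add_apply,
      LinearMap.smul_apply, Herm.dyad_apply, map_add, map_smul, hadj, hsv, hsw, S.K.add_right, S.K.smul_right,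
      map_mul, hσκ]
    module
  -- an isotropic partner spanning the same plane
  obtain ⟨e₀, he₀⟩ : ∃ e₀, e₀ = (σ (-κ))⁻¹ • w := ⟨_, rfl⟩
  have hve₀ : S.K.B v e₀ = 1 := by
    rw [he₀, S.K.smul_right, map_inv₀, S.K.inv, hvw]
    exact inv_mul_cancel₀ (neg_ne_zero.2 hκ)
  obtain ⟨t, ht⟩ := S.K.exists_trace (-S.K.B e₀ e₀) (by rw [map_neg, S.K.conj])
  set e := e₀ + t • v with he
  have hee : S.K.B e e = 0 := by
    rw [he, S.K.add_left, S.K.add_right, S.K.add_right, S.K.smul_left, S.K.smul_left, S.K.smul_right,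
      S.K.smul_right, hvv, hve₀, S.K.eq_one_symm hve₀]
    linear_combination ht
  have hve : S.K.B v e = 1 := by rw [he, S.K.add_right, S.K.smul_right, hve₀, hvv]; ring
  have hmid : ∀ z ∈ S.K.mid v e, S.K.B z v = 0 ∧ S.K.B z w = 0 := fun z hz => by
    obtain ⟨h1, h2⟩ := S.K.mem_mid.1 hz
    refine ⟨h1, ?_⟩
    rw [he, he₀, S.K.add_right, S.K.smul_right, S.K.smul_right, h1, mul_zero, add_zero, map_inv₀, S.K.inv] at h2
    exact (mul_eq_zero.1 h2).resolve_left (inv_ne_zero (neg_ne_zero.2 hκ))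
  obtain ⟨g, g', hg, hg', hgg, hg'g', hgg'⟩ := S.K.exists_pair_mid hb hvv hee hve
  obtain ⟨m, hm, hm'⟩ : ∃ m : F, m + σ m = -1 ∧ m - σ m ≠ 0 := by
    obtain ⟨m, hm⟩ := S.K.exists_trace (-1) (by rw [map_neg, map_one])
    by_cases h : m - σ m = 0
    swap
    · exact ⟨m, hm, h⟩
    have h2 : (2 : F) ≠ 0 := fun h2 => one_ne_zero (α := F) (by linear_combination hm + h - m * h2)
    refine ⟨m + l, by rw [map_add, hl]; linear_combination hm, ?_⟩
    rw [map_add, hl, show m + l - (σ m + -l) = (2 : F) * l by linear_combination h]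
    exact mul_ne_zero h2 hl0
  obtain ⟨ρ, hρ⟩ := S.K.exists_trace 1 (map_one σ)
  obtain ⟨g1, g2⟩ := hmid g hg
  obtain ⟨g1', g2'⟩ := hmid g' hg'
  have h1 := hD g 0 g1 g2 (by rw [hgg, map_zero]; ring)
  have h2 := hD (ρ • g') 0 (by rw [S.K.smul_left, g1', mul_zero]) (by rw [S.K.smul_left, g2', mul_zero])
    (by rw [S.K.smul_left, S.K.smul_right, hg'g', map_zero]; ring)
  have h3 := hD (g + ρ • g') m (by rw [S.K.add_left, S.K.smul_left, g1, g1']; ring)
    (by rw [S.K.add_left, S.K.smul_left, g2, g2']; ring)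
    (by
      rw [S.K.add_left, S.K.add_right, S.K.add_right, S.K.smul_left, S.K.smul_left, S.K.smul_right, S.K.smul_right,
        hgg, hg'g', hgg', S.K.eq_one_symm hgg']
      linear_combination hm + hρ)
  refine ⟨v, hv0, hvv, -(l * κ) * (m - σ m), mul_ne_zero (neg_ne_zero.2 (mul_ne_zero hl0 hκ)) hm', ?_⟩
  have h4 := (S.radGrp M c hc).sub_mem ((S.radGrp M c hc).sub_mem h3 h1) h2
  rw [← S.mem_radGrp hc]
  convert h4 using 1
  refine LinearMap.ext fun x => ?_
  simp only [D, LinearMap.sub_apply, LinearMap.smul_apply, LinearMap.add_apply, Herm.dyad_apply, S.K.add_right,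
    S.K.smul_right, map_zero]
  module

/-- A non-scalar element on the smaller side gives one on the larger side. -/
theorem not_small_of_flip (hM : S.Over M) (ha : 4 ≤ finrank F W) (hb : 2 ≤ finrank F X)
    (h : ¬ S.flip.Small M) : ¬ S.Small M := by
  intro hS
  rw [Small] at h
  push Not at h
  obtain ⟨y, hy0, hy, A, hA, hns⟩ := h
  obtain ⟨v, hv0, hvv, k, hk0, hk⟩ := S.flip.exists_root_rad (Over.flip S hM) ha hy0 hy hA hns
  have h1 : S.flip.up y hy (k • S.H.dyad v v) = S.up v hvv (k • S.K.dyad y y) := LinearEquiv.ext fun u => by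
    rw [S.flip.up_apply, S.up_apply, LinearMap.smul_apply, LinearMap.smul_apply, Herm.dyad_apply, Herm.dyad_apply,
      map_smul, map_smul, map_smul, map_smul]
    have h2 : S.H.B (S.flip.P y u) v = S.K.B (S.P v u) y := (S.flip.P_B y u v).trans (S.P_B v u y).symm
    show u + k • (S.H.B (S.flip.P y u) v • S.t v y) = _
    rw [h2]
  obtain ⟨r, hr⟩ := hS v hv0 hvv _ (h1 ▸ hk)
  obtain ⟨z, hz⟩ := S.K.exists_one hy0
  obtain ⟨e, -, he⟩ := S.K.exists_partner hy0 hy
  have h3 := LinearMap.congr_fun hr e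
  rw [LinearMap.smul_apply, LinearMap.smul_apply, Herm.dyad_apply, LinearMap.id_apply, S.K.eq_one_symm he,
    one_smul] at h3
  have h4 : S.K.B (k • y) y = S.K.B (r • e) y := congrArg (fun x => S.K.B x y) h3
  rw [S.K.smul_left, S.K.smul_left, hy, S.K.eq_one_symm he, mul_zero, mul_one] at h4
  rw [← h4, zero_smul, smul_eq_zero] at h3
  exact h3.elim hk0 hy0

end Sys

end Cfsg.Agent.H98.TensorUnit
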