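import Cfsg.Agent.H98.TensorUnit.Form

/-!
A tensor product of two Hermitian spaces: coordinate maps, decomposable maps, unipotent elements at a singular
factor space.
-/

set_option autoImplicit false
set_option linter.style.haveILetI false
set_option linter.unusedSectionVars false

namespace Cfsg.Agent.H98.TensorUnit

open Module

/-- A Hermitian space with a tensor decomposition. -/
structure Sys (F : Type*) [Field F] (σ : F ≃+* F) (V W X : Type*) [AddCommGroup V] [Module F V]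
    [AddCommGroup W] [Module F W] [AddCommGroup X] [Module F X] where
  H : Herm F σ W
  K : Herm F σ X
  Ω : Herm F σ V
  t : W →ₗ[F] X →ₗ[F] V
  ω_pure : ∀ w x u y, Ω.B (t w x) (t u y) = H.B w u * K.B x y
  span : ∀ D : Submodule F V, (∀ w x, t w x ∈ D) → D = ⊤
  W0 : ∃ w : W, w ≠ 0
  X0 : ∃ x : X, x ≠ 0

variable {F : Type*} [Field F] [Finite F] {σ : F ≃+* F} {V W X : Type*}
  [AddCommGroup V] [Module F V] [FiniteDimensional F V]
  [AddCommGroup W] [Module F W] [FiniteDimensional F W]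
  [AddCommGroup X] [Module F X] [FiniteDimensional F X]

/-- A unipotent automorphism has determinant one. -/
theorem det_eq_one {U : Type*} [AddCommGroup U] [Module F U] [FiniteDimensional F U] {g : U ≃ₗ[F] U} {n : ℕ}
    (hn : ((g : Module.End F U) - 1) ^ n = 0) : LinearEquiv.det g = 1 := by
  obtain ⟨p, hp⟩ := CharP.exists F
  haveI := hp
  rcases subsingleton_or_nontrivial U with hU | hU
  · have : g = 1 := LinearEquiv.ext fun x => Subsingleton.elim _ _
    rw [this, map_one]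
  haveI hpp : Fact p.Prime := ⟨(CharP.char_is_prime_or_zero F p).resolve_right (CharP.char_ne_zero_of_finite F p)⟩
  haveI : CharP (Module.End F U) p := charP_of_injective_algebraMap (algebraMap F (Module.End F U)).injective p
  obtain ⟨k, hk⟩ : ∃ k, n ≤ p ^ k := ⟨n, (Nat.lt_pow_self hpp.out.one_lt).le⟩
  have h1 : (g : Module.End F U) ^ p ^ k = 1 := by
    rw [← sub_eq_zero]
    calc (g : Module.End F U) ^ p ^ k - 1 = ((g : Module.End F U) - 1) ^ p ^ k := by
          rw [sub_pow_char_pow_of_commute p k (Commute.one_right _), one_pow]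
      _ = 0 := pow_eq_zero_of_le hk hn
  have h2 := congrArg LinearMap.det h1
  rw [map_pow, map_one] at h2
  refine Units.ext ?_
  rw [LinearEquiv.coe_det, Units.val_one, ← sub_eq_zero]
  refine (pow_eq_zero_iff (pow_ne_zero k hpp.out.ne_zero)).1 ?_
  rw [sub_pow_char_pow, h2, one_pow, sub_self]

namespace Sys

variable (S : Sys F σ V W X)

/-- The two factors exchanged. -/
@[reducible] def flip : Sys F σ V X W where
  H := S.K
  K := S.H
  Ω := S.Ω
  t := S.t.flip
  ω_pure x w y u := by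
    rw [LinearMap.flip_apply, LinearMap.flip_apply, S.ω_pure, mul_comm]
  span D hD := S.span D fun w x => hD x w
  W0 := S.X0
  X0 := S.W0

@[simp] theorem flip_t (x : X) (w : W) : S.flip.t x w = S.t w x := rfl

theorem flip_flip : S.flip.flip = S := rfl

theorem ext_pure {U : Type*} [AddCommGroup U] [Module F U] {f g : V →ₗ[F] U}
    (hfg : ∀ w x, f (S.t w x) = g (S.t w x)) : f = g :=
  LinearMap.ext_on (s := {v | f v = g v}) (by
    refine S.span _ fun w x => Submodule.subset_span (hfg w x)) fun _ hv => hv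

theorem ext_equiv {g h : V ≃ₗ[F] V} (hgh : ∀ w x, g (S.t w x) = h (S.t w x)) : g = h :=
  LinearEquiv.toLinearMap_injective (S.ext_pure hgh)

/-- The component map at `u`. -/
noncomputable def P (u : W) : V →ₗ[F] X where
  toFun v := S.K.rep (S.Ω.lin v ∘ₗ S.t u)
  map_add' v v' := S.K.ext_right fun x => by
    simp only [S.K.add_right, S.K.B_rep, LinearMap.comp_apply, Herm.lin_apply, S.Ω.add_right]
  map_smul' c v := S.K.ext_right fun x => by
    simp only [S.K.smul_right, S.K.B_rep, LinearMap.comp_apply, Herm.lin_apply, S.Ω.smul_right, RingHom.id_apply]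

theorem B_P (u : W) (v : V) (x : X) : S.K.B x (S.P u v) = S.Ω.B (S.t u x) v := S.K.B_rep _ x

theorem P_B (u : W) (v : V) (x : X) : S.K.B (S.P u v) x = S.Ω.B v (S.t u x) := by
  rw [← S.K.conj, S.B_P, S.Ω.conj]

theorem P_pure (u w : W) (x : X) : S.P u (S.t w x) = S.H.B w u • x :=
  S.K.ext_left fun y => by rw [S.P_B, S.ω_pure, S.K.smul_left]

theorem P_add (u u' : W) (v : V) : S.P (u + u') v = S.P u v + S.P u' v :=
  S.K.ext_left fun y => by rw [S.P_B, S.K.add_left, S.P_B, S.P_B, map_add, LinearMap.add_apply, S.Ω.add_right]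

theorem P_smul (k : F) (u : W) (v : V) : S.P (k • u) v = σ k • S.P u v :=
  S.K.ext_left fun y => by
    rw [S.P_B, S.K.smul_left, S.P_B, map_smul, LinearMap.smul_apply, S.Ω.smul_right]

theorem P_sub (u u' : W) (v : V) : S.P (u - u') v = S.P u v - S.P u' v :=
  eq_sub_of_add_eq (by rw [← S.P_add, sub_add_cancel])

theorem exists_H_one {c : W} (hc : c ≠ 0) : ∃ e, S.H.B e c = 1 := by
  obtain ⟨e, he⟩ := S.H.exists_one hc
  exact ⟨e, S.H.eq_one_symm he⟩

theorem P_surj {c : W} (hc : c ≠ 0) (x : X) : ∃ v, S.P c v = x := by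
  obtain ⟨e, he⟩ := S.exists_H_one hc
  exact ⟨S.t e x, by rw [S.P_pure, he, one_smul]⟩

theorem t_inj {w : W} (hw : w ≠ 0) {x : X} (hx : S.t w x = 0) : x = 0 := by
  obtain ⟨e, he⟩ := S.H.exists_one hw
  have h1 := congrArg (S.P e) hx
  rwa [S.P_pure, he, one_smul, map_zero] at h1

theorem t_inj_left {x : X} (hx : x ≠ 0) {w : W} (hw : S.t w x = 0) : w = 0 := S.flip.t_inj hx hw

/-- Expansion in a basis of `W`. -/
theorem decomp {κ : Type*} [Fintype κ] {b d : κ → W} (hb : ∀ w, ∑ i, S.H.B w (d i) • b i = w) (v : V) :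
    ∑ i, S.t (b i) (S.P (d i) v) = v := by
  have h := S.ext_pure (f := ∑ i, S.t (b i) ∘ₗ S.P (d i)) (g := LinearMap.id) fun w x => by
    simp only [LinearMap.sum_apply, LinearMap.comp_apply, LinearMap.id_apply, S.P_pure, map_smul]
    conv_rhs => rw [← hb w, map_sum, LinearMap.sum_apply]
    simp only [map_smul, LinearMap.smul_apply]
  simpa using LinearMap.congr_fun h v

theorem eq_of_P {v v' : V} (hv : ∀ u, S.P u v = S.P u v') : v = v' := by
  obtain ⟨b, d, hb, -⟩ := S.H.exists_dual_basis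
  rw [← S.decomp hb v, ← S.decomp hb v']
  simp only [hv]

/-- The kernel of `P c` is spanned by the `f ⊗ x` with `f ⊥ c`. -/
theorem kerP_mem {c e : W} (hec : S.H.B e c = 1) {U : Type*} [AddCommGroup U] [Module F U] (L : V →ₗ[F] U)
    (D : Submodule F U) (hL : ∀ f x, S.H.B f c = 0 → L (S.t f x) ∈ D) {v : V} (hv : S.P c v = 0) : L v ∈ D := by
  obtain ⟨b, d, hb, -⟩ := S.H.exists_dual_basis
  have hsum : ∑ i, S.H.B (b i) c • S.P (d i) v = 0 := by
    have h := congrArg (S.P c) (S.decomp hb v)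
    simpa only [map_sum, S.P_pure, hv] using h
  have h1 : v = ∑ i, S.t (b i - S.H.B (b i) c • e) (S.P (d i) v) := by
    simp only [map_sub, map_smul, LinearMap.sub_apply, LinearMap.smul_apply, Finset.sum_sub_distrib]
    have h2 := congrArg (S.t e) hsum
    simp only [map_sum, map_smul, map_zero] at h2
    rw [h2, sub_zero, S.decomp hb]
  rw [h1, map_sum]
  refine D.sum_mem fun i _ => hL _ _ ?_
  rw [S.H.sub_left, S.H.smul_left, hec, mul_one, sub_self]

/-- Linearly independent first factors give independent summands. -/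
theorem indep_inj {κ : Type*} [Fintype κ] {w : κ → W} (hw : LinearIndependent F w) :
    Function.Injective
      (∑ i, S.t (w i) ∘ₗ LinearMap.proj (R := F) (φ := fun _ : κ => X) i : (κ → X) →ₗ[F] V) := by
  classical
  obtain ⟨g, hg⟩ := (Fintype.linearCombination F w).exists_leftInverse_of_injective
    (LinearMap.ker_eq_bot.2 (linearIndependent_iff_injective_fintypeLinearCombination.1 hw))
  refine (injective_iff_map_eq_zero _).2 fun x hx => funext fun j => ?_
  have h1 := congrArg (S.P (S.H.rep (LinearMap.proj j ∘ₗ g))) hx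
  have h2 : ∀ i, g (w i) = Pi.single i 1 := fun i => by
    have := LinearMap.congr_fun hg (Pi.single i 1)
    simpa [Fintype.linearCombination_apply_single] using this
  simp only [LinearMap.sum_apply, LinearMap.comp_apply, LinearMap.proj_apply, map_sum, S.P_pure, S.H.B_rep,
    h2, map_zero, Pi.single_apply, ite_smul, one_smul, zero_smul, Finset.sum_ite_eq, Finset.mem_univ, if_true] at h1
  exact h1

/-- The dimension of `D ⊗ E` bounds. -/
theorem finrank_indep {κ : Type*} [Fintype κ] {w : κ → W} (hw : LinearIndependent F w) (E : Submodule F X)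
    {D : Submodule F V} (hD : ∀ i, ∀ x ∈ E, S.t (w i) x ∈ D) : Fintype.card κ * finrank F E ≤ finrank F D := by
  let f : (κ → E) →ₗ[F] D := LinearMap.codRestrict D
    ((∑ i, S.t (w i) ∘ₗ LinearMap.proj (R := F) (φ := fun _ : κ => X) i) ∘ₗ
      LinearMap.pi fun i => E.subtype ∘ₗ LinearMap.proj i) fun x => by
      simpa [LinearMap.sum_apply] using D.sum_mem fun i _ => hD i _ (x i).2
  have hf : Function.Injective f := fun x y hxy => funext fun i => Subtype.ext
    (congrFun (S.indep_inj hw (congrArg Subtype.val hxy)) i)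
  have := LinearMap.finrank_le_finrank_of_injective hf
  rwa [Module.finrank_pi_fintype, Finset.sum_const, smul_eq_mul, Finset.card_univ] at this

/-- `v ↦ v + c ⊗ A (P c v)`. -/
noncomputable def up (c : W) (hc : S.H.B c c = 0) (A : X →ₗ[F] X) : V ≃ₗ[F] V :=
  LinearEquiv.ofLinearMap (LinearMap.id + S.t c ∘ₗ A ∘ₗ S.P c) (LinearMap.id + S.t c ∘ₗ (-A) ∘ₗ S.P c)
    (LinearMap.ext fun v => by simp [S.P_pure, hc])
    (LinearMap.ext fun v => by simp [S.P_pure, hc])

theorem up_apply {c : W} (hc : S.H.B c c = 0) (A : X →ₗ[F] X) (v : V) :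
    S.up c hc A v = v + S.t c (A (S.P c v)) := rfl

theorem P_up {c : W} (hc : S.H.B c c = 0) (A : X →ₗ[F] X) (v : V) : S.P c (S.up c hc A v) = S.P c v := by
  rw [S.up_apply, map_add, S.P_pure, hc, zero_smul, add_zero]

theorem up_add {c : W} (hc : S.H.B c c = 0) (A A' : X →ₗ[F] X) :
    S.up c hc A * S.up c hc A' = S.up c hc (A + A') := LinearEquiv.ext fun v => by
  rw [LinearEquiv.mul_apply, S.up_apply, S.P_up, S.up_apply, S.up_apply, LinearMap.add_apply, map_add]
  abel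

theorem up_zero {c : W} (hc : S.H.B c c = 0) : S.up c hc 0 = 1 := LinearEquiv.ext fun v => by
  rw [S.up_apply]; simp

theorem up_inv {c : W} (hc : S.H.B c c = 0) (A : X →ₗ[F] X) : (S.up c hc A)⁻¹ = S.up c hc (-A) :=
  inv_eq_of_mul_eq_one_right (by rw [S.up_add, add_neg_cancel, S.up_zero])

theorem up_det {c : W} (hc : S.H.B c c = 0) (A : X →ₗ[F] X) : LinearEquiv.det (S.up c hc A) = 1 :=
  det_eq_one (n := 2) (LinearMap.ext fun v => by
    rw [pow_two]
    simp [Module.End.mul_apply, S.up_apply, S.P_pure, hc])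

/-- Preserving the form. -/
def IsIso (g : V ≃ₗ[F] V) : Prop := ∀ v v', S.Ω.B (g v) (g v') = S.Ω.B v v'

theorem up_iso_iff {c : W} (hc0 : c ≠ 0) (hc : S.H.B c c = 0) (A : X →ₗ[F] X) :
    S.IsIso (S.up c hc A) ↔ S.K.Skew A := by
  have key : ∀ v v', S.Ω.B (S.up c hc A v) (S.up c hc A v') =
      S.Ω.B v v' + (S.K.B (A (S.P c v)) (S.P c v') + S.K.B (S.P c v) (A (S.P c v'))) := fun v v' => by
    simp only [S.up_apply, S.Ω.add_left, S.Ω.add_right, S.ω_pure, hc, zero_mul, S.B_P, S.P_B]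
    ring
  refine ⟨fun h x y => ?_, fun h v v' => by rw [key, h, add_zero]⟩
  obtain ⟨v, rfl⟩ := S.P_surj hc0 x
  obtain ⟨v', rfl⟩ := S.P_surj hc0 y
  have h1 := h v v'
  rwa [key, add_eq_left] at h1

/-- A decomposable map. -/
def Dec (g : V ≃ₗ[F] V) : Prop :=
  ∃ (A : W →ₗ[F] W) (B : X →ₗ[F] X), ∀ w x, g (S.t w x) = S.t (A w) (B x)

theorem dec_flip {g : V ≃ₗ[F] V} : S.flip.Dec g ↔ S.Dec g :=
  ⟨fun ⟨B, A, h⟩ => ⟨A, B, fun w x => h x w⟩, fun ⟨A, B, h⟩ => ⟨B, A, fun x w => h w x⟩⟩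

theorem Dec.mul {g h : V ≃ₗ[F] V} (hg : S.Dec g) (hh : S.Dec h) : S.Dec (g * h) := by
  obtain ⟨A, B, hA⟩ := hg
  obtain ⟨A', B', hA'⟩ := hh
  exact ⟨A ∘ₗ A', B ∘ₗ B', fun w x => by rw [LinearEquiv.mul_apply, hA', hA]; rfl⟩

theorem dec_injective {g : V ≃ₗ[F] V} {A : W →ₗ[F] W} {B : X →ₗ[F] X}
    (h : ∀ w x, g (S.t w x) = S.t (A w) (B x)) : Function.Injective A ∧ Function.Injective B := by
  obtain ⟨w0, hw0⟩ := S.W0
  obtain ⟨x0, hx0⟩ := S.X0
  refine ⟨(injective_iff_map_eq_zero A).2 fun w hw => S.t_inj_left hx0 (g.injective ?_),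
    (injective_iff_map_eq_zero B).2 fun x hx => S.t_inj hw0 (g.injective ?_)⟩
  · rw [h, hw, map_zero, LinearMap.zero_apply, map_zero]
  · rw [h, hx, map_zero, map_zero]

theorem Dec.inv {g : V ≃ₗ[F] V} (hg : S.Dec g) : S.Dec g⁻¹ := by
  obtain ⟨A, B, h⟩ := hg
  obtain ⟨hA, hB⟩ := S.dec_injective h
  let A' := LinearEquiv.ofInjectiveEndo A hA
  let B' := LinearEquiv.ofInjectiveEndo B hB
  refine ⟨A'.symm, B'.symm, fun w x => g.injective ?_⟩
  show g (g.symm _) = _
  rw [g.apply_symm_apply, h]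
  exact (congrArg₂ (fun a b => S.t a b) (A'.apply_symm_apply w) (B'.apply_symm_apply x)).symm

/-- The two factors of a decomposable isometry are similitudes. -/
theorem dec_similitude {g : V ≃ₗ[F] V} (hg : S.IsIso g) {A : W →ₗ[F] W} {B : X →ₗ[F] X}
    (h : ∀ w x, g (S.t w x) = S.t (A w) (B x)) :
    ∃ ν : F, ν ≠ 0 ∧ (∀ w u, S.H.B (A w) (A u) * ν = S.H.B w u) ∧
      ∀ x y, S.K.B (B x) (B y) = ν * S.K.B x y := by
  have key : ∀ w u x y, S.H.B (A w) (A u) * S.K.B (B x) (B y) = S.H.B w u * S.K.B x y := fun w u x y => by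
    rw [← S.ω_pure, ← S.ω_pure, ← h, ← h, hg]
  obtain ⟨x0, hx0⟩ := S.X0
  obtain ⟨y0, hy0⟩ := S.K.exists_one hx0
  obtain ⟨w0, hw0⟩ := S.W0
  obtain ⟨u0, hu0⟩ := S.H.exists_one hw0
  have h1 : ∀ w u, S.H.B (A w) (A u) * S.K.B (B x0) (B y0) = S.H.B w u := fun w u => by
    rw [key, hy0, mul_one]
  refine ⟨S.K.B (B x0) (B y0), fun h0 => ?_, h1, fun x y => ?_⟩
  · have := h1 w0 u0
    rw [h0, mul_zero, hu0] at this
    exact zero_ne_one this
  · have h2 := key w0 u0 x y
    have h3 := h1 w0 u0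
    rw [hu0] at h2 h3
    linear_combination S.K.B (B x0) (B y0) * h2 - S.K.B (B x) (B y) * h3

/-- `A ⊗ B` as a linear map. -/
noncomputable def tensMap (A : W →ₗ[F] W) (B : X →ₗ[F] X) : V →ₗ[F] V :=
  ∑ i, S.t (A ((S.H.exists_dual_basis).choose i)) ∘ₗ B ∘ₗ
    S.P ((S.H.exists_dual_basis).choose_spec.choose i)

theorem tensMap_pure (A : W →ₗ[F] W) (B : X →ₗ[F] X) (w : W) (x : X) :
    S.tensMap A B (S.t w x) = S.t (A w) (B x) := by
  simp only [tensMap, LinearMap.sum_apply, LinearMap.comp_apply, S.P_pure, map_smul]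
  conv_rhs => rw [← (S.H.exists_dual_basis).choose_spec.choose_spec.1 w, map_sum, map_sum, LinearMap.sum_apply]
  simp only [map_smul, LinearMap.smul_apply]

/-- `A ⊗ B`. -/
noncomputable def tens (A : W ≃ₗ[F] W) (B : X ≃ₗ[F] X) : V ≃ₗ[F] V :=
  LinearEquiv.ofLinearMap (S.tensMap A B) (S.tensMap A.symm B.symm)
    (S.ext_pure fun w x => by simp [S.tensMap_pure])
    (S.ext_pure fun w x => by simp [S.tensMap_pure])

theorem tens_pure (A : W ≃ₗ[F] W) (B : X ≃ₗ[F] X) (w : W) (x : X) :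
    S.tens A B (S.t w x) = S.t (A w) (B x) := S.tensMap_pure _ _ w x

theorem tens_dec (A : W ≃ₗ[F] W) (B : X ≃ₗ[F] X) : S.Dec (S.tens A B) :=
  ⟨A, B, S.tens_pure A B⟩

/-- Isometries are detected on pure tensors. -/
theorem iso_of_pure {g : V ≃ₗ[F] V}
    (h : ∀ w x u y, S.Ω.B (g (S.t w x)) (g (S.t u y)) = S.H.B w u * S.K.B x y) : S.IsIso g := by
  have h1 : ∀ u y v, S.Ω.B (g v) (g (S.t u y)) = S.Ω.B v (S.t u y) := fun u y v =>
    LinearMap.congr_fun (S.ext_pure (f := S.Ω.lin (g (S.t u y)) ∘ₗ g.toLinearMap) (g := S.Ω.lin (S.t u y))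
      fun w x => by
        show S.Ω.B (g (S.t w x)) (g (S.t u y)) = S.Ω.B (S.t w x) (S.t u y)
        rw [h, S.ω_pure]) v
  intro v v'
  rw [← S.Ω.conj (g v'), ← S.Ω.conj v']
  congr 1
  exact LinearMap.congr_fun (S.ext_pure (f := S.Ω.lin (g v) ∘ₗ g.toLinearMap) (g := S.Ω.lin v) fun w x => by
    show S.Ω.B (g (S.t w x)) (g v) = S.Ω.B (S.t w x) v
    rw [← S.Ω.conj, h1, S.Ω.conj]) v'

theorem tens_iso {A : W ≃ₗ[F] W} {B : X ≃ₗ[F] X}
    (h : ∀ w u x y, S.H.B (A w) (A u) * S.K.B (B x) (B y) = S.H.B w u * S.K.B x y) : S.IsIso (S.tens A B) :=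
  S.iso_of_pure fun w x u y => by rw [S.tens_pure, S.tens_pure, S.ω_pure, h]

theorem IsIso.mul {g h : V ≃ₗ[F] V} (hg : S.IsIso g) (hh : S.IsIso h) : S.IsIso (g * h) :=
  fun v v' => (hg _ _).trans (hh v v')

theorem IsIso.inv {g : V ≃ₗ[F] V} (hg : S.IsIso g) : S.IsIso g⁻¹ := fun v v' => by
  conv_rhs => rw [← g.apply_symm_apply v, ← g.apply_symm_apply v', hg]
  rfl

/-- An overgroup of the stabiliser of the decomposition in the special unitary group. -/
structure Over (M : Subgroup (V ≃ₗ[F] V)) : Prop where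
  iso : ∀ g ∈ M, S.IsIso g
  det : ∀ g ∈ M, LinearEquiv.det g = 1
  dec : ∀ g, S.IsIso g → LinearEquiv.det g = 1 → S.Dec g → g ∈ M

theorem Over.flip {M : Subgroup (V ≃ₗ[F] V)} (hM : S.Over M) : S.flip.Over M :=
  ⟨hM.iso, hM.det, fun g h1 h2 h3 => hM.dec g h1 h2 (S.dec_flip.1 h3)⟩

/-- Only scalars among the elements at singular vectors. -/
def Small (M : Subgroup (V ≃ₗ[F] V)) : Prop :=
  ∀ c : W, c ≠ 0 → ∀ hc : S.H.B c c = 0, ∀ A : X →ₗ[F] X, S.up c hc A ∈ M → ∃ k : F, A = k • LinearMap.id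

theorem dec_up_scalar {c : W} (hc : S.H.B c c = 0) (k : F) : S.Dec (S.up c hc (k • LinearMap.id)) :=
  ⟨LinearMap.id + k • S.H.dyad c c, LinearMap.id, fun w x => by
    simp only [S.up_apply, LinearMap.smul_apply, LinearMap.id_apply, S.P_pure, LinearMap.add_apply,
      Herm.dyad_apply, map_add, map_smul, LinearMap.add_apply, LinearMap.smul_apply]
    rw [smul_comm]⟩

theorem up_scalar_mem {M : Subgroup (V ≃ₗ[F] V)} (hM : S.Over M) {c : W} (hc0 : c ≠ 0) (hc : S.H.B c c = 0)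
    {k : F} (hk : σ k = -k) : S.up c hc (k • LinearMap.id) ∈ M :=
  hM.dec _ ((S.up_iso_iff hc0 hc _).2 (S.K.skew_scalar hk)) (S.up_det hc _) (S.dec_up_scalar hc k)

end Sys

end Cfsg.Agent.H98.TensorUnit
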